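import Groth.Agent.FibDesc.K781.Defs4
import Groth.Agent.FibDesc.K781.Counit

/-!
# Cech diagrams of proper maps; fibres of Cech diagrams

* `isProper_of_isCech`: the terms of the Cech diagram of a proper separated map are proper and separated.
* `isCech_fibre`: the fibre of a Cech diagram is a Cech diagram.
* `descP_fibre`: descent along the fibre of a Cech diagram over a point of the image.
-/

set_option autoImplicit false
set_option backward.isDefEq.respectTransparency false
set_option backward.isDefEq.respectTransparency.types false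

universe u

open CategoryTheory CategoryTheory.Limits ComplexShape Opposite TopologicalSpace Filter Topology
  K781.Desc K781.God K781.Cech K781.Row

namespace K781.Fib

variable {S : TopCat.{u}}

/-- The point `s`, as a space over `S`. -/
def ptO (s : S) : Over S := Over.mk (TopCat.ofHom (ContinuousMap.const PUnit.{u + 1} s) : TopCat.of PUnit.{u + 1} ⟶ S)

/-- A point of a space over `S`. -/
def ptTo (T : Over S) (x : T.left) (s : S) (h : T.hom x = s) : ptO s ⟶ T :=
  Over.homMk (TopCat.ofHom (ContinuousMap.const PUnit.{u + 1} x)) (by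
    ext y
    exact h)

lemma ptTo_left (T : Over S) (x : T.left) (s : S) (h : T.hom x = s) (y : (ptO s).left) :
    (ptTo T x s h).left y = x := rfl

lemma over_w {T T' : Over S} (f : T ⟶ T') (x : T.left) : T'.hom (f.left x) = T.hom x :=
  congr_arg (fun k => k x) (Over.w f)

lemma hom_ext_left {T T' : Over S} {f g : T ⟶ T'} (h : ∀ x, f.left x = g.left x) : f = g := by
  apply Over.OverMorphism.ext
  ext x
  exact h x

lemma left_congr {T T' : Over S} {f g : T ⟶ T'} (h : f = g) (x : T.left) : f.left x = g.left x :=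
  congr_arg (fun k => k.left x) h

section

variable {τ : Dpᵒᵖ ⥤ Over S} (h : IsCech τ)

/-- The `i`-th vertex of a point. -/
abbrev vx (τ : Dpᵒᵖ ⥤ Over S) (n : ℕ) (i : Fin (n + 1)) (x : (τ.obj (op (ob n))).left) :
    (τ.obj (op (ob 0))).left := (τ.map (vtx n i).op).left x

include h in
lemma pt_ext (n : ℕ) (x x' : (τ.obj (op (ob n))).left) (hx : ∀ i, vx τ n i x = vx τ n i x') : x = x' := by
  have h0 : (τ.obj (op (ob n))).hom x' = (τ.obj (op (ob n))).hom x := by
    rw [← over_w (τ.map (vtx n 0).op) x, ← over_w (τ.map (vtx n 0).op) x']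
    exact congr_arg _ (hx 0).symm
  have h1 := h.hom_ext n (ptO ((τ.obj (op (ob n))).hom x)) (ptTo _ x _ rfl) (ptTo _ x' _ h0)
    (fun i => hom_ext_left fun y => hx i)
  exact left_congr h1 PUnit.unit

include h in
lemma pt_lift (h' : IsIso (τ.obj (op .star)).hom) (n : ℕ) (s : S) (x : Fin (n + 1) → (τ.obj (op (ob 0))).left)
    (hx : ∀ i, (τ.obj (op (ob 0))).hom (x i) = s) :
    ∃ z : (τ.obj (op (ob n))).left, ∀ i, vx τ n i z = x i := by
  obtain ⟨b, hb⟩ := h.exists_lift n (ptO s) (fun i => ptTo _ (x i) s (hx i)) (fun i j => by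
    apply Over.OverMorphism.ext
    rw [← cancel_mono (τ.obj (op .star)).hom]
    exact (Over.w _).trans (Over.w _).symm)
  exact ⟨b.left PUnit.unit, fun i => left_congr (hb i) PUnit.unit⟩

include h in
/-- The topology of the terms is induced by the vertices. -/
lemma nhds_eq (h' : IsIso (τ.obj (op .star)).hom) (n : ℕ) (x : (τ.obj (op (ob n))).left) :
    (⨅ i, comap (vx τ n i) (𝓝 (vx τ n i x))) ≤ 𝓝 x := by
  have key : ∀ (Y : TopCat.{u}) (e : Y → (τ.obj (op (ob n))).left) (_ : ∀ i, Continuous fun y => vx τ n i (e y)),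
      Continuous e := by
    intro Y e he
    have hp : Continuous fun y => (τ.obj (op (ob n))).hom (e y) := by
      have h1 : (fun y => (τ.obj (op (ob n))).hom (e y)) = (τ.obj (op (ob 0))).hom ∘ fun y => vx τ n 0 (e y) := by
        funext y
        exact (over_w (τ.map (vtx n 0).op) (e y)).symm
      rw [h1]
      exact ((τ.obj (op (ob 0))).hom.hom.continuous).comp (he 0)
    let Z : Over S := Over.mk (TopCat.ofHom ⟨_, hp⟩ : Y ⟶ S)
    obtain ⟨b, hb⟩ := h.exists_lift n Z (fun i => Over.homMk (TopCat.ofHom ⟨_, he i⟩) (by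
          ext y
          exact over_w (τ.map (vtx n i).op) (e y))) (fun i j => by
      apply Over.OverMorphism.ext
      rw [← cancel_mono (τ.obj (op .star)).hom]
      exact (Over.w _).trans (Over.w _).symm)
    have hid : ∀ y, b.left y = e y := fun y => pt_ext h n _ _ fun i => left_congr (hb i) y
    have hc : Continuous (fun y => b.left y) := b.left.hom.continuous
    exact hc.congr hid
  have h3 : (⨅ i, TopologicalSpace.induced (vx τ n i) inferInstance) ≤ (τ.obj (op (ob n))).left.str := by
    rw [← continuous_id_iff_le]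
    refine key (@TopCat.of (τ.obj (op (ob n))).left (⨅ i, TopologicalSpace.induced (vx τ n i) inferInstance)) id
      fun i => continuous_iInf_dom (i := i) continuous_induced_dom
  have h4 := nhds_mono (a := x) h3
  refine le_trans ?_ h4
  rw [nhds_iInf]
  exact le_of_eq (iInf_congr fun i => (nhds_induced _ _).symm)

/-- The terms of the Cech diagram of a proper separated map are proper and separated. -/
theorem isProper_of_isCech (τ : Dpᵒᵖ ⥤ Over S) (h : IsCech τ) (h' : IsIso (τ.obj (op .star)).hom)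
    (hp : IsProperMap (τ.obj (op (ob 0))).hom)
    (hs : ∀ x x' : (τ.obj (op (ob 0))).left, (τ.obj (op (ob 0))).hom x = (τ.obj (op (ob 0))).hom x' → x ≠ x' →
      ∃ U V : Set (τ.obj (op (ob 0))).left, IsOpen U ∧ IsOpen V ∧ x ∈ U ∧ x' ∈ V ∧ Disjoint U V)
    (n : ℕ) : IsProperMap (τ.obj (op (ob n))).hom ∧ ∀ x x' : (τ.obj (op (ob n))).left,
      (τ.obj (op (ob n))).hom x = (τ.obj (op (ob n))).hom x' → x ≠ x' →
      ∃ U V : Set (τ.obj (op (ob n))).left, IsOpen U ∧ IsOpen V ∧ x ∈ U ∧ x' ∈ V ∧ Disjoint U V := by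
  constructor
  · rw [isProperMap_iff_ultrafilter]
    refine ⟨(τ.obj (op (ob n))).hom.hom.continuous, fun 𝒰 y hy => ?_⟩
    have hp' := (isProperMap_iff_ultrafilter.1 hp).2
    have h1 (i : Fin (n + 1)) : ∃ x : (τ.obj (op (ob 0))).left, (τ.obj (op (ob 0))).hom x = y ∧
        ((𝒰.map (vx τ n i) : Ultrafilter _) : Filter (τ.obj (op (ob 0))).left) ≤ 𝓝 x := by
      apply hp'
      rw [Ultrafilter.coe_map, tendsto_map'_iff]
      have h2 : ((τ.obj (op (ob 0))).hom ∘ (vx τ n i)) = (τ.obj (op (ob n))).hom := by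
        funext z
        exact over_w (τ.map (vtx n i).op) z
      rw [h2]
      exact hy
    choose x hx hx' using h1
    obtain ⟨z, hz⟩ := pt_lift h h' n y x hx
    refine ⟨z, ?_, ?_⟩
    · rw [← over_w (τ.map (vtx n 0).op) z, ← hx 0]
      exact congr_arg _ (hz 0)
    · refine le_trans (le_iInf fun i => ?_) (nhds_eq h h' n z)
      rw [hz i, ← map_le_iff_le_comap]
      exact hx' i
  · intro x x' hxx hne
    obtain ⟨i, hi⟩ : ∃ i, vx τ n i x ≠ vx τ n i x' := by
      by_contra hc
      push Not at hc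
      exact hne (pt_ext h n x x' hc)
    obtain ⟨U, V, hU, hV, hxU, hxV, hd⟩ := hs (vx τ n i x) (vx τ n i x') (by
      rw [over_w, over_w, hxx]) hi
    have hc : Continuous (vx τ n i) := (τ.map (vtx n i).op).left.hom.continuous
    exact ⟨vx τ n i ⁻¹' U, vx τ n i ⁻¹' V, hU.preimage hc, hV.preimage hc, hxU, hxV, hd.preimage _⟩

/-- The fibre functor is base change to the fibre. -/
lemma isPullback_fibι {T T' : Over S} (f : T' ⟶ T) (s : S) :
    IsPullback (fibι T' s) (fibRes f s) f (fibι T s) := by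
  refine ⟨⟨rfl⟩, ⟨PullbackCone.IsLimit.mk _ (fun c => Over.homMk (TopCat.ofHom ⟨fun z => ⟨c.fst.left z, ?_⟩, ?_⟩) ?_)
    ?_ ?_ ?_⟩⟩
  · change T'.hom (c.fst.left z) = s
    rw [over_w, ← over_w c.snd z]
    exact (c.snd.left z).2
  · exact Continuous.subtype_mk c.fst.left.hom.continuous _
  · ext z
    exact over_w c.fst z
  · intro c
    exact hom_ext_left fun z => rfl
  · intro c
    rw [← cancel_mono (fibι T s), Category.assoc, fibRes_ι, ← c.condition]
    rfl
  · intro c m h1 h2
    rw [← cancel_mono (fibι T' s), h1]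
    rfl

/-- The inclusions of the fibres. -/
def fibN (s : S) : fibreF (S := S) s ⟶ 𝟭 _ where
  app T := fibι T s
  naturality _ _ _ := rfl

/-- The fibre of a Cech diagram is a Cech diagram. -/
theorem isCech_fibre (τ : Dpᵒᵖ ⥤ Over S) (h : IsCech τ) (s : S) : IsCech (τ ⋙ fibreF s) :=
  h.baseChange (Functor.whiskerLeft τ (fibN s)) fun x => isPullback_fibι (τ.map (init x).op) s

/-- Descent along the fibre of a Cech diagram over a point of the image. -/
theorem descP_fibre (τ : Dpᵒᵖ ⥤ Over S) (h : IsCech τ) (h' : IsIso (τ.obj (op .star)).hom) (s : S)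
    (hs : ∃ x : (τ.obj (op (ob 0))).left, (τ.obj (op (ob 0))).hom x = s) (P : (Over S)ᵒᵖ ⥤ AddCommGrpCat.{u}) :
    DescP P (τ ⋙ fibreF s) := by
  obtain ⟨x, hx⟩ := hs
  let σ : fibre (τ.obj (op .star)) s ⟶ fibre (τ.obj (op (ob 0))) s :=
    Over.homMk (TopCat.ofHom (ContinuousMap.const _ (⟨x, hx⟩ : (τ.obj (op (ob 0))).hom ⁻¹' {s}))) (by
      ext (y : (τ.obj (op .star)).hom ⁻¹' {s})
      have h1 : (τ.obj (op .star)).hom y.1 = s := y.2
      exact hx.trans h1.symm)
  have hσ : σ ≫ (τ ⋙ fibreF s).map (init (ob 0)).op = 𝟙 _ := by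
    apply Over.OverMorphism.ext
    have : Mono (fibre (τ.obj (op .star)) s).hom := by
      rw [TopCat.mono_iff_injective]
      intro a b hab
      apply Subtype.ext
      have := (TopCat.mono_iff_injective (τ.obj (op .star)).hom).1 inferInstance
      exact this hab
    rw [← cancel_mono (fibre (τ.obj (op .star)) s).hom]
    exact (Over.w _).trans (Over.w (𝟙 (fibre (τ.obj (op .star)) s))).symm
  obtain ⟨e⟩ := xco_of_section (isCech_fibre τ h s) σ hσ
  refine isDesc_of_augExact ?_ fun q => (e.map ((G P).X q)).augExact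
  obtain ⟨a, ha⟩ := bb_G P
  exact ⟨a, fun i hi => ((Functor.whiskeringLeft _ _ AddCommGrpCat.{u}).obj (τ ⋙ fibreF s).rightOp).map_isZero (ha i hi)⟩

end

end K781.Fib
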